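import Groth.Agent.CILib.CIMorphism
import Groth.Agent.CILib.LocalCI
import Groth.Agent.CancelLib.Scheme
import Groth.Agent.TransRegLib.Chart
import Groth.Agent.ASp.GeomRedEt
import Groth.Agent.S2890

/-!
Immersions of complete intersection families in smooth ones are regular.
-/

set_option autoImplicit false
set_option linter.style.haveILetI false
set_option backward.isDefEq.respectTransparency false
set_option backward.defeqAttrib.useBackward true

universe u

open CategoryTheory CategoryTheory.Limits AlgebraicGeometry

namespace Groth.Agent.SyntRegLib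

variable {X Y S : Scheme.{u}}

/-- Regularity of an immersion may be checked after corestricting to an open. -/
theorem isRegularImmersionAt_of_lift (i : Y ⟶ X) [IsImmersion i] (y : Y)
    (h : RegImm.IsRegularImmersionAt RegImm.Kind.regular i.liftCoborder y) :
    RegImm.IsRegularImmersionAt RegImm.Kind.regular i y := by
  let W := i.coborderRange
  obtain ⟨⟨U, hU⟩, hy, hc, rs, hrs, hk⟩ := h
  have h0 : IsClosedImmersion (i ∣_ W) := by
    have hfac : i ∣_ W = (i ⁻¹ᵁ W).ι ≫ i.liftCoborder := by
      rw [← cancel_mono W.ι, morphismRestrict_ι, Category.assoc, i.liftCoborder_ι]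
    haveI : IsClosedImmersion (i ⁻¹ᵁ W).ι := IsClosedImmersion.of_isPreimmersion _ (by
      rw [Scheme.Opens.range_ι, show ((i ⁻¹ᵁ W : Y.Opens) : Set Y) = Set.univ from
        Set.eq_univ_of_forall fun y => subset_coborder (Set.mem_range_self y)]
      exact isClosed_univ)
    rw [hfac]
    infer_instance
  refine ⟨⟨W.ι ''ᵁ U, hU.image_of_isOpenImmersion W.ι⟩, ?_, RegIdealLib.isClosedImmersion_restrict i W h0 U, rs, hrs,
    ?_⟩
  · exact ⟨i.liftCoborder y, hy, (Scheme.Hom.comp_apply i.liftCoborder W.ι y).symm.trans (by rw [i.liftCoborder_ι])⟩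
  · show RingHom.ker (i.app (W.ι ''ᵁ U)).hom = _
    have hk' : RingHom.ker (i.liftCoborder.app U).hom = Ideal.ofList rs := hk
    rw [liftCoborder_app, CommRingCat.hom_comp, RingHom.ker_comp_of_injective _
      (ConcreteCategory.bijective_of_isIso _).1] at hk'
    exact hk'

/-- A closed immersion of a complete intersection family into a smooth one has regular fibres. -/
theorem isRegularImmersionAt_fiber (i : Y ⟶ X) [IsClosedImmersion i] (f : X ⟶ S) [Smooth f]
    (h : CInt.IsCIMorphism (i ≫ f)) (y : Y) :
    RegImm.IsRegularImmersionAt RegImm.Kind.regular (MoreMor.fiberMap i f ((i ≫ f) y)) ((i ≫ f).asFiber y) := by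
  let s := (i ≫ f) y
  let j := MoreMor.fiberMap i f s
  let z := (i ≫ f).asFiber y
  haveI : IsClosedImmersion j :=
    MorphismProperty.of_isPullback (S2890.isPullback_fiberMap i f s) (inferInstanceAs (IsClosedImmersion i))
  haveI hsm : Smooth (f.fiberToSpecResidueField s) := MorphismProperty.pullback_snd _ _ inferInstance
  haveI : LocallyOfFiniteType (f.fiberToSpecResidueField s) := inferInstance
  haveI : IsLocallyNoetherian (f.fiber s) := LocallyOfFiniteType.isLocallyNoetherian (f.fiberToSpecResidueField s)
  refine CancelLib.isRegularImmersionAt_of_stalk _ j z ?_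
  haveI : IsRegularLocalRing ((f.fiber s).presheaf.stalk (j z)) :=
    ASp.isRegularLocalRing_stalk_of_smooth_field (k := S.residueField s) (f.fiberToSpecResidueField s) _
  have hci : Pi1.IsCompleteIntersection (((i ≫ f).fiber s).presheaf.stalk z) := h.2.2 y
  obtain ⟨rs, hrs, hk⟩ := CILib.isRegular_of_cutBy (j.stalkMap z).hom (j.stalkMap_surjective z)
    ((CILib.isCompleteIntersection_iff_cutBy (j.stalkMap z).hom (j.stalkMap_surjective z)).1 hci)
  exact ⟨rs, hrs, hk.symm⟩

/-- An immersion of a complete intersection family into a smooth one is regular. -/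
theorem isRegularImmersion_of_smooth (i : Y ⟶ X) [IsImmersion i] (f : X ⟶ S) [Smooth f]
    (h : CInt.IsCIMorphism (i ≫ f)) : RegImm.IsRegularImmersion RegImm.Kind.regular i := by
  refine ⟨inferInstance, fun y => isRegularImmersionAt_of_lift i y ?_⟩
  let W := i.coborderRange
  let f' := W.ι ≫ f
  haveI : Smooth f' := inferInstance
  have h' : CInt.IsCIMorphism (i.liftCoborder ≫ f') := by
    show CInt.IsCIMorphism (i.liftCoborder ≫ W.ι ≫ f)
    rwa [← Category.assoc, i.liftCoborder_ι]
  haveI := h'.1
  haveI := h'.2.1
  refine TransRegLib.isRegularImmersionAt_self y ?_ (f := f')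
  rw [← (i.liftCoborder ≫ f').fiberι_asFiber y]
  exact TransRegLib.hasTransversalChart_of_fibre f' i.liftCoborder _ _ (Flat.stalkMap f' _)
    (Flat.stalkMap (i.liftCoborder ≫ f') _) (isRegularImmersionAt_fiber i.liftCoborder f' h' y)

end Groth.Agent.SyntRegLib
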